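import Cfsg.Agent.Lib.Spor.PermOut.Main
import Cfsg.Agent.Lib.Spor.PermOut.McLCheck
import Cfsg.Agent.Lib.Spor.PermOut.McLGroup
import Cfsg.Agent.Lib.Spor.ConwaySimple
import Cfsg.Prelude.Def_Spor_Conway

/-!
The outer automorphism group of McLaughlin's group.
-/

set_option autoImplicit false
set_option maxRecDepth 100000

namespace CfsgLib.Spor.PermOut.McLData

open Cfsg CfsgLib.Spor CfsgLib.Spor.Config
open CfsgLib.Spor.ShortPairs (v0)
open CfsgLib.Spor.McLConfig (ce pairStab gens_pair pairStab_fix mclGens)

theorem pts_ok : ptsOK (lOf (v0 : GolayPt → ℤ)) (lOf (ce : GolayPt → ℤ)) 16 8 pts = true := by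
  decide +kernel

theorem pts_length : pts.length = 275 := by decide +kernel

theorem pts_nodup : pts.Nodup := by decide +kernel

theorem progs_ok : ((List.range mclGens.length).all fun j =>
    progOK pts 275 (mclGens.getD j []) (gens.getD j 0)) = true := by decide +kernel

theorem moves_ok : ((List.range mclGens.length).any fun j =>
    (List.range 275).any fun i => !Nat.beq (getQ (gens.getD j 0) i) i) = true := by decide +kernel

theorem abc_ok : abcOK cert gens words iabc = true := by decide +kernel

/-- The standard McLaughlin subgroup is the stabiliser of a pair of short vectors. -/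
theorem pairStab_equiv_mcl : Nonempty (pairStab ≃* Cfsg.Spor.McL) := by
  set v : leechLattice := Cfsg.Spor.leechV with hvdef
  set u : leechLattice := Cfsg.Spor.leechU with hudef
  set w : leechLattice := -(v + u) with hwdef
  have hu : sqNorm (u : GolayPt → ℤ) = 32 := by rw [hudef]; decide +kernel
  have hw : sqNorm (w : GolayPt → ℤ) = 32 := by rw [hwdef, hvdef, hudef]; decide +kernel
  have huw : dotInt (u : GolayPt → ℤ) (w : GolayPt → ℤ) = -8 := by
    rw [hwdef, hvdef, hudef]; decide +kernel
  obtain ⟨g, h1, h2⟩ := McLConfig.exists_std hu hw huw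
  have hle : Cfsg.Spor.McL ≤ Co0 := fun x hx => hx.1.1
  have he : Cfsg.Spor.McL.subgroupOf Co0 =
      MulAction.stabilizer Co0 u ⊓ MulAction.stabilizer Co0 w := by
    ext x
    simp only [Subgroup.mem_subgroupOf, Subgroup.mem_inf, MulAction.mem_stabilizer_iff]
    constructor
    · intro hx
      have e1 : x • v = v := hx.1.2
      have e2 : x • u = u := hx.2
      exact ⟨e2, by rw [hwdef, smul_neg_co0, coe_smul_add, e1, e2]⟩
    · rintro ⟨e2, e3⟩
      rw [hwdef, smul_neg_co0, coe_smul_add, e2, neg_inj] at e3
      exact ⟨⟨x.2, add_right_cancel e3⟩, e2⟩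
  have hmap : (Cfsg.Spor.McL.subgroupOf Co0).map (MulAut.conj g).toMonoidHom = pairStab := by
    rw [he, Subgroup.map_inf _ _ _ (MulAut.conj g).injective]
    show _ = MulAction.stabilizer Co0 v0 ⊓ MulAction.stabilizer Co0 ce
    rw [← h1, ← h2, MulAction.stabilizer_smul_eq_stabilizer_map_conj,
      MulAction.stabilizer_smul_eq_stabilizer_map_conj]
  exact ⟨(MulEquiv.subgroupCongr hmap.symm).trans
    (((Cfsg.Spor.McL.subgroupOf Co0).equivMapOfInjective _ (MulAut.conj g).injective).symm.trans
      (Subgroup.subgroupOfEquivOfLe hle))⟩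

theorem natCard_out : Nat.card (Out ↥Cfsg.Spor.McL) = 2 := by
  haveI : IsSimpleGroup pairStab := ConwaySimple.isSimple_mcl
  haveI : Finite pairStab :=
    Nat.finite_of_card_ne_zero (by rw [ConwaySimple.natCard_mclStd]; norm_num)
  obtain ⟨M, ⟨e⟩, hM⟩ := exists_model (K := pairStab) pts_length pts_ok pts_nodup
    McLConfig.ncard_275 (pairStab_fix 16 8) gens_pair gens (by decide +kernel) progs_ok moves_ok
  obtain ⟨e'⟩ := pairStab_equiv_mcl
  rw [← natCard_out_congr e']
  exact natCard_out_of_model cert e (ConwaySimple.natCard_mclStd.trans rfl) (by decide +kernel) (List.ne_nil_of_length_pos (by decide +kernel)) hM abc_ok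
    group_ok gens_ok cent_ok valid_ok outer_ok

end CfsgLib.Spor.PermOut.McLData
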