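import Cfsg.Agent.Lib.Spor.PermOut.HSData

/-!
Evaluation of the certificate for the Higman-Sims group.
-/

set_option autoImplicit false
set_option maxRecDepth 100000
set_option maxHeartbeats 0
set_option Elab.async false

namespace CfsgLib.Spor.PermOut.HSData

theorem group_ok : cert.checkGroup = true := by decide +kernel

theorem gens_ok : cert.checkGens = true := by decide +kernel

theorem cent_ok : cert.checkCent = true := by decide +kernel

theorem valid_ok : cert.checkValid = true := by decide +kernel

theorem outer_ok : cert.checkOuter = true := by decide +kernel


end CfsgLib.Spor.PermOut.HSData
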