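import Cfsg.Agent.Lib.Spor.PermOut.Main
import Cfsg.Agent.Lib.Spor.PermOut.HSCheck
import Cfsg.Agent.Lib.Spor.ConwaySimple
import Cfsg.Agent.Lib.Spor.HSIso

/-!
The outer automorphism group of the Higman-Sims group.
-/

set_option autoImplicit false
set_option maxRecDepth 100000

namespace CfsgLib.Spor.PermOut.HSData

open Cfsg CfsgLib.Spor CfsgLib.Spor.Config
open CfsgLib.Spor.HSConfig (bigV bigW pairStab gens_pair pairStab_fix hsList hsGens)

theorem pts_ok : ptsOK (lOf (bigV : GolayPt → ℤ)) (lOf (bigW : GolayPt → ℤ)) 24 (-24) hsList = true := by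
  decide +kernel

theorem progs_ok : ((List.range hsGens.length).all fun j =>
    progOK hsList 100 (hsGens.getD j []) (gens.getD j 0)) = true := by decide +kernel

theorem moves_ok : ((List.range hsGens.length).any fun j =>
    (List.range 100).any fun i => !Nat.beq (getQ (gens.getD j 0) i) i) = true := by decide +kernel

theorem abc_ok : abcOK cert gens words iabc = true := by decide +kernel

theorem natCard_out : Nat.card (Out ↥Cfsg.Spor.HS) = 2 := by
  haveI : IsSimpleGroup pairStab := ConwaySimple.isSimple_hs
  haveI : Finite pairStab :=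
    Nat.finite_of_card_ne_zero (by rw [ConwaySimple.natCard_hsStd]; norm_num)
  obtain ⟨M, ⟨e⟩, hM⟩ := exists_model (K := pairStab) HSConfig.hsList_length pts_ok HSConfig.hsList_nodup
    HSConfig.ncard_100 (pairStab_fix 24 (-24)) gens_pair gens (by decide +kernel) progs_ok moves_ok
  obtain ⟨e'⟩ := HSIso.pairStab_equiv_hs
  rw [← natCard_out_congr e']
  exact natCard_out_of_model cert e (ConwaySimple.natCard_hsStd.trans rfl) (by decide +kernel) (List.ne_nil_of_length_pos (by decide +kernel)) hM abc_ok
    group_ok gens_ok cent_ok valid_ok outer_ok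

end CfsgLib.Spor.PermOut.HSData
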