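import Mathlib

/-!
Permutations of `Fin n` given by packed codes, straight-line programs, transversal chains and a
search for the elements intertwining two given elements.
-/

set_option autoImplicit false

namespace CfsgLib.Spor.PermOut

open Equiv

variable {n : ℕ}

/-- an image stored in a code, nine bits each -/
def getQ (a i : ℕ) : ℕ := (a >>> (9 * i)) &&& 511

/-- `a` is the code of `σ` -/
def Rep (σ : Perm (Fin n)) (a : ℕ) : Prop := ∀ i : Fin n, (σ i : ℕ) = getQ a i

theorem Rep.unique {σ τ : Perm (Fin n)} {a : ℕ} (h : Rep σ a) (h' : Rep τ a) : σ = τ :=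
  Equiv.ext fun i => Fin.ext ((h i).trans (h' i).symm)

open Classical in
/-- the permutation of a code -/
noncomputable def permOf (n a : ℕ) : Perm (Fin n) :=
  if h : ∃ σ : Perm (Fin n), Rep σ a then h.choose else 1

theorem Rep.permOf_eq {σ : Perm (Fin n)} {a : ℕ} (h : Rep σ a) : permOf n a = σ := by
  have hex : ∃ σ : Perm (Fin n), Rep σ a := ⟨σ, h⟩
  rw [permOf, dif_pos hex]
  exact hex.choose_spec.unique h

/-- the code `a` belongs to an element of `M` -/
def InM (M : Subgroup (Perm (Fin n))) (a : ℕ) : Prop := ∃ σ ∈ M, Rep σ a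

theorem InM.rep {M : Subgroup (Perm (Fin n))} {a : ℕ} (h : InM M a) : Rep (permOf n a) a := by
  obtain ⟨σ, -, hr⟩ := h
  rw [hr.permOf_eq]; exact hr

theorem InM.mem {M : Subgroup (Perm (Fin n))} {a : ℕ} (h : InM M a) : permOf n a ∈ M := by
  obtain ⟨σ, hσ, hr⟩ := h
  rw [hr.permOf_eq]; exact hσ

/-- value of a product of codes at a point -/
def app (p : List ℕ) (x : ℕ) : ℕ := p.foldr getQ x

theorem app_prod : ∀ (p : List ℕ), (∀ a ∈ p, Rep (permOf n a) a) → ∀ i : Fin n,
    (((p.map (permOf n)).prod i : Fin n) : ℕ) = app p i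
  | [], _, _ => rfl
  | a :: p, h, i => by
    rw [List.map_cons, List.prod_cons, Perm.mul_apply, h a List.mem_cons_self,
      app_prod p (fun b hb => h b (List.mem_cons_of_mem _ hb))]
    rfl

/-- a property of all numbers below a bound -/
def allN (n : ℕ) (P : ℕ → Bool) : Bool :=
  Nat.rec true (fun x ih => P x && ih) n

theorem allN_iff {P : ℕ → Bool} : ∀ {n : ℕ}, allN n P = true ↔ ∀ x < n, P x = true
  | 0 => by simp [allN]
  | n + 1 => by
    show (P n && allN n P) = true ↔ _
    rw [Bool.and_eq_true, allN_iff (n := n)]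
    exact ⟨fun h x hx => (Nat.lt_succ_iff_lt_or_eq.1 hx).elim (h.2 x) (fun e => e ▸ h.1),
      fun h => ⟨h n (Nat.lt_succ_self n), fun x hx => h x (Nat.lt_succ_of_lt hx)⟩⟩

/-- a binary trie of codes -/
inductive Trie
  | nil
  | node (v : ℕ) (l r : Trie)

/-- the code stored at a position, `d` if there is none -/
def Trie.get (d : ℕ) : Trie → ℕ → ℕ
  | .nil, _ => d
  | .node v l r, k =>
    if Nat.beq k 0 then v else if Nat.beq (k % 2) 1 then l.get d (k / 2) else r.get d (k / 2 - 1)

/-- store a code at a position, with a bound on the depth -/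
def Trie.put : ℕ → Trie → ℕ → ℕ → Trie
  | 0, t, _, _ => t
  | f + 1, .nil, k, v =>
    if Nat.beq k 0 then .node v .nil .nil
    else if Nat.beq (k % 2) 1 then .node v (Trie.put f .nil (k / 2) v) .nil
    else .node v .nil (Trie.put f .nil (k / 2 - 1) v)
  | f + 1, .node w l r, k, v =>
    if Nat.beq k 0 then .node v l r
    else if Nat.beq (k % 2) 1 then .node w (Trie.put f l (k / 2) v) r
    else .node w l (Trie.put f r (k / 2 - 1) v)

/-- all stored codes -/
def Trie.All (Q : ℕ → Prop) : Trie → Prop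
  | .nil => True
  | .node v l r => Q v ∧ l.All Q ∧ r.All Q

theorem Trie.All.get {Q : ℕ → Prop} {d : ℕ} (hd : Q d) : ∀ {t : Trie}, t.All Q → ∀ k, Q (t.get d k)
  | .nil, _, _ => hd
  | .node v l r, h, k => by
    unfold Trie.get
    split_ifs
    · exact h.1
    · exact h.2.1.get hd _
    · exact h.2.2.get hd _

theorem Trie.All.put {Q : ℕ → Prop} {v : ℕ} (hv : Q v) : ∀ (f : ℕ) {t : Trie}, t.All Q → ∀ k, (t.put f k v).All Q
  | 0, _, h, _ => by rw [Trie.put]; exact h
  | f + 1, .nil, h, k => by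
    unfold Trie.put
    split_ifs
    · exact ⟨hv, trivial, trivial⟩
    · exact ⟨hv, Trie.All.put hv f (t := .nil) trivial _, trivial⟩
    · exact ⟨hv, trivial, Trie.All.put hv f (t := .nil) trivial _⟩
  | f + 1, .node w l r, h, k => by
    unfold Trie.put
    split_ifs
    · exact ⟨hv, h.2.1, h.2.2⟩
    · exact ⟨h.1, h.2.1.put hv f _, h.2.2⟩
    · exact ⟨h.1, h.2.1, h.2.2.put hv f _⟩

/-- store a list of codes from a position on -/
def fill : List ℕ → ℕ → Trie → Trie
  | [], _, t => t
  | a :: r, k, t => fill r (k + 1) (t.put 32 k a)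

theorem all_fill {Q : ℕ → Prop} : ∀ (l : List ℕ) (k : ℕ) {t : Trie}, (∀ a ∈ l, Q a) → t.All Q →
    (fill l k t).All Q
  | [], _, _, _, h => h
  | a :: r, k, _, hl, h => all_fill r (k + 1) (fun b hb => hl b (List.mem_cons_of_mem _ hb))
      (h.put (hl a List.mem_cons_self) 32 k)

/-- each new code is the composite of two earlier entries -/
def slp (n d : ℕ) : List (ℕ × ℕ × ℕ) → ℕ → Trie → Bool
  | [], _, _ => true
  | (a, i, j) :: r, k, t =>
    allN n (fun x => Nat.beq (getQ a x) (getQ (t.get d i) (getQ (t.get d j) x))) &&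
      slp n d r (k + 1) (t.put 32 k a)

theorem inM_slp {M : Subgroup (Perm (Fin n))} {d : ℕ} (hd : InM M d) :
    ∀ (r : List (ℕ × ℕ × ℕ)) (k : ℕ) (t : Trie), slp n d r k t = true → t.All (InM M) →
      (∀ a ∈ r.map Prod.fst, InM M a) ∧ (fill (r.map Prod.fst) k t).All (InM M)
  | [], _, _, _, h => ⟨by simp, h⟩
  | (a, i, j) :: r, k, t, hs, h => by
    simp only [slp, Bool.and_eq_true, allN_iff, Nat.beq_eq] at hs
    obtain ⟨he, hr⟩ := hs
    have ha : InM M a := by
      obtain ⟨σ, hσ, hσr⟩ := h.get hd i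
      obtain ⟨τ, hτ, hτr⟩ := h.get hd j
      exact ⟨σ * τ, M.mul_mem hσ hτ, fun x => by
        rw [he x x.2, Perm.mul_apply, hσr, hτr]⟩
    obtain ⟨h1, h2⟩ := inM_slp hd r (k + 1) _ hr (h.put ha 32 k)
    refine ⟨fun b hb => ?_, h2⟩
    rcases List.mem_cons.1 hb with rfl | hb
    · exact ha
    · exact h1 b hb

/-- a level: the point, an optional earlier point sent to it, the codes -/
abbrev Lev : Type := ℕ × Option ℕ × List ℕ

/-- distinct images, fixed earlier points, and predecessors among the earlier points -/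
def levOK (n u : ℕ) : List Lev → List ℕ → Bool
  | [], _ => true
  | (b, pr, ts) :: r, done =>
    Nat.blt b n && decide ((ts.map fun t => getQ t b).Nodup) &&
      (ts.all fun t => done.all fun d => Nat.beq (getQ t d) d) &&
      (match pr with
        | none => true
        | some c => done.contains c && Nat.beq (getQ u c) b) &&
      levOK n u r (b :: done)

/-- the products along the levels -/
noncomputable def elts (n : ℕ) : List Lev → Finset (Perm (Fin n))
  | [] => {1}
  | l :: r => Finset.image₂ (fun t s => permOf n t * s) l.2.2.toFinset (elts n r)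

theorem elts_spec {M : Subgroup (Perm (Fin n))} {u : ℕ} : ∀ (lev : List Lev) (done : List ℕ),
    levOK n u lev done = true → (∀ l ∈ lev, ∀ t ∈ l.2.2, InM M t) →
      (∀ g ∈ elts n lev, g ∈ M ∧ ∀ i : Fin n, (i : ℕ) ∈ done → g i = i) ∧
      (elts n lev).card = (lev.map fun l => l.2.2.length).prod
  | [], done, _, _ => by simp [elts]
  | (b, pr, ts) :: r, done, hok, hM => by
    simp only [levOK, Bool.and_eq_true, Nat.blt_eq, decide_eq_true_eq, List.all_eq_true, Nat.beq_eq] at hok
    obtain ⟨⟨⟨⟨hb, hnd⟩, hfix⟩, -⟩, hr⟩ := hok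
    obtain ⟨ih1, ih2⟩ := elts_spec r (b :: done) hr fun l hl => hM l (List.mem_cons_of_mem _ hl)
    have ht : ∀ t ∈ ts, InM M t := hM _ List.mem_cons_self
    constructor
    · intro g hg
      obtain ⟨t, htm, s, hs, rfl⟩ := Finset.mem_image₂.1 hg
      rw [List.mem_toFinset] at htm
      refine ⟨M.mul_mem (ht t htm).mem (ih1 s hs).1, fun i hi => ?_⟩
      rw [Perm.mul_apply, (ih1 s hs).2 i (List.mem_cons_of_mem _ hi)]
      exact Fin.ext (((ht t htm).rep i).trans (hfix t htm _ hi))
    · rw [elts, Finset.card_image₂_iff.2, List.toFinset_card_of_nodup (List.Nodup.of_map _ hnd), ih2,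
        List.map_cons, List.prod_cons]
      intro ⟨t, s⟩ h ⟨t', s'⟩ h' e
      simp only [Set.mem_prod, Finset.mem_coe, List.mem_toFinset] at h h'
      simp only at e
      have eb : getQ t b = getQ t' b := by
        have := congrArg (fun g : Perm (Fin n) => ((g ⟨b, hb⟩ : Fin n) : ℕ)) e
        simpa [Perm.mul_apply, (ih1 s h.2).2 ⟨b, hb⟩ List.mem_cons_self,
          (ih1 s' h'.2).2 ⟨b, hb⟩ List.mem_cons_self, (ht t h.1).rep ⟨b, hb⟩, (ht t' h'.1).rep ⟨b, hb⟩] using this
      have ett : t = t' := List.inj_on_of_nodup_map hnd h.1 h'.1 eb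
      subst ett
      rw [mul_right_inj] at e
      rw [e]

theorem elts_eq {M : Subgroup (Perm (Fin n))} {u : ℕ} {lev : List Lev} (hok : levOK n u lev [] = true)
    (hM : ∀ l ∈ lev, ∀ t ∈ l.2.2, InM M t) (hcard : (lev.map fun l => l.2.2.length).prod = Nat.card M)
    {g : Perm (Fin n)} (hg : g ∈ M) : g ∈ elts n lev := by
  obtain ⟨h1, h2⟩ := elts_spec lev [] hok hM
  classical
  have hsub : elts n lev ⊆ (Finset.univ.filter fun g => g ∈ M) := fun x hx =>
    Finset.mem_filter.2 ⟨Finset.mem_univ _, (h1 x hx).1⟩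
  have he := Finset.eq_of_subset_of_card_le hsub (by
    rw [h2, hcard, Nat.card_eq_fintype_card, Fintype.card_subtype])
  rw [he]
  exact Finset.mem_filter.2 ⟨Finset.mem_univ _, hg⟩

theorem card_eq_of_elts {M : Subgroup (Perm (Fin n))} {u : ℕ} {lev : List Lev}
    (hok : levOK n u lev [] = true) (hM : ∀ l ∈ lev, ∀ t ∈ l.2.2, InM M t) :
    (lev.map fun l => l.2.2.length).prod ≤ Nat.card M := by
  obtain ⟨h1, h2⟩ := elts_spec lev [] hok hM
  classical
  rw [← h2, Nat.card_eq_fintype_card, Fintype.card_subtype]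
  exact Finset.card_le_card fun x hx => Finset.mem_filter.2 ⟨Finset.mem_univ _, (h1 x hx).1⟩

/-- iterated application of a code -/
def itQ (a : ℕ) : ℕ → ℕ → ℕ
  | 0, x => x
  | k + 1, x => getQ a (itQ a k x)

theorem Rep.itQ {σ : Perm (Fin n)} {a : ℕ} (h : Rep σ a) :
    ∀ (k : ℕ) (i : Fin n), (((σ ^ k) i : Fin n) : ℕ) = itQ a k i
  | 0, _ => rfl
  | k + 1, i => by
    rw [pow_succ', Perm.mul_apply, h, h.itQ k]
    rfl

/-- candidates `y` with `y u = v^k y` along the levels -/
def srch (v k : ℕ) : List Lev → List ℕ → List (List ℕ)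
  | [], p => [p]
  | (b, pr, ts) :: r, p =>
    (ts.filter fun t => match pr with
      | none => true
      | some c => Nat.beq (app p (getQ t b)) (itQ v k (app p c))).flatMap fun t => srch v k r (p ++ [t])

theorem exists_srch {M : Subgroup (Perm (Fin n))} {u v k : ℕ} {U V y : Perm (Fin n)}
    (hu : Rep U u) (hv : Rep V v) (hy : y * U = V ^ k * y) :
    ∀ (lev : List Lev) (done p : List ℕ), levOK n u lev done = true →
      (∀ l ∈ lev, ∀ t ∈ l.2.2, InM M t) → (∀ a ∈ p, InM M a) → (∀ d ∈ done, d < n) →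
      ∀ s ∈ elts n lev, y = (p.map (permOf n)).prod * s →
        ∃ q ∈ srch v k lev p, (∀ a ∈ q, InM M a) ∧ y = (q.map (permOf n)).prod
  | [], done, p, _, _, hp, _, s, hs, e => by
    rw [elts, Finset.mem_singleton] at hs
    exact ⟨p, by simp [srch], hp, by rw [e, hs, mul_one]⟩
  | (b, pr, ts) :: r, done, p, hok, hM, hp, hd, s, hs, e => by
    have hok' := hok
    simp only [levOK, Bool.and_eq_true, Nat.blt_eq, decide_eq_true_eq, List.all_eq_true, Nat.beq_eq] at hok
    obtain ⟨⟨⟨⟨hb, -⟩, -⟩, hpr⟩, hr⟩ := hok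
    obtain ⟨t, htm, s', hs', rfl⟩ := Finset.mem_image₂.1 hs
    rw [List.mem_toFinset] at htm
    have ht : InM M t := hM _ List.mem_cons_self t htm
    have hM' : ∀ l ∈ r, ∀ t ∈ l.2.2, InM M t := fun l hl => hM l (List.mem_cons_of_mem _ hl)
    have hp' : ∀ a ∈ p ++ [t], InM M a := fun a ha => by
      rcases List.mem_append.1 ha with ha | ha
      · exact hp a ha
      · rw [List.mem_singleton.1 ha]; exact ht
    obtain ⟨q, hq, hq'⟩ := exists_srch hu hv hy r (b :: done) (p ++ [t]) hr hM' hp'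
      (fun d hd' => by
        rcases List.mem_cons.1 hd' with rfl | hd'
        · exact hb
        · exact hd d hd') s' hs'
      (by rw [e, List.map_append, List.prod_append, List.map_singleton, List.prod_singleton, mul_assoc])
    refine ⟨q, List.mem_flatMap.2 ⟨t, List.mem_filter.2 ⟨htm, ?_⟩, hq⟩, hq'⟩
    cases pr with
    | none => rfl
    | some c =>
      simp only [List.contains_iff_mem, Bool.and_eq_true, Nat.beq_eq] at hpr
      obtain ⟨hc, huc⟩ := hpr
      obtain ⟨hfix', -⟩ := elts_spec (M := M) r (b :: done) hr hM'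
      obtain ⟨hfix, -⟩ := elts_spec (M := M) ((b, some c, ts) :: r) done hok' hM
      have hyb : ((y ⟨b, hb⟩ : Fin n) : ℕ) = app p (getQ t b) := by
        have hX : ∀ a ∈ p, Rep (permOf n a) a := fun a ha => (hp a ha).rep
        rw [e, Perm.mul_apply, Perm.mul_apply, (hfix' s' hs').2 ⟨b, hb⟩ List.mem_cons_self, app_prod p hX,
          ht.rep]
      have hyc : ((y ⟨c, hd c hc⟩ : Fin n) : ℕ) = app p c := by
        have hX : ∀ a ∈ p, Rep (permOf n a) a := fun a ha => (hp a ha).rep
        rw [e, Perm.mul_apply, (hfix _ hs).2 ⟨c, hd c hc⟩ hc, app_prod p hX]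
      have key := congrArg (fun g : Perm (Fin n) => ((g ⟨c, hd c hc⟩ : Fin n) : ℕ)) hy
      simp only [Perm.mul_apply] at key
      rw [hv.itQ, hyc, show U ⟨c, hd c hc⟩ = ⟨b, hb⟩ from Fin.ext ((hu _).trans huc), hyb] at key
      simp [key]

/-- the candidates that satisfy the relation -/
def cands (n u v k : ℕ) (lev : List Lev) : List (List ℕ) :=
  (srch v k lev []).filter fun p =>
    (List.range n).all fun x => Nat.beq (app p (getQ u x)) (itQ v k (app p x))

theorem exists_cand {M : Subgroup (Perm (Fin n))} {u v k : ℕ} {U V y : Perm (Fin n)}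
    (hu : Rep U u) (hv : Rep V v) (hy : y * U = V ^ k * y) (hym : y ∈ M) {lev : List Lev}
    (hok : levOK n u lev [] = true) (hM : ∀ l ∈ lev, ∀ t ∈ l.2.2, InM M t)
    (hcard : (lev.map fun l => l.2.2.length).prod = Nat.card M) :
    ∃ q ∈ cands n u v k lev, ∀ i : Fin n, ((y i : Fin n) : ℕ) = app q i := by
  obtain ⟨q, hq, hqM, e⟩ := exists_srch (M := M) hu hv hy lev [] [] hok hM (by simp) (by simp)
    y (elts_eq hok hM hcard hym) (by simp)
  have hval : ∀ i : Fin n, ((y i : Fin n) : ℕ) = app q i := fun i => by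
    rw [e]; exact app_prod q (fun a ha => (hqM a ha).rep) i
  refine ⟨q, List.mem_filter.2 ⟨hq, List.all_eq_true.2 fun x hx => ?_⟩, hval⟩
  rw [List.mem_range] at hx
  have key := congrArg (fun g : Perm (Fin n) => ((g ⟨x, hx⟩ : Fin n) : ℕ)) hy
  simp only [Perm.mul_apply] at key
  rw [hv.itQ, hval, hval, hu] at key
  simp [key]

end CfsgLib.Spor.PermOut
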