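import Cfsg.Agent.Lib.Spor.PermOut.Basic
import Cfsg.Agent.Lib.KnownA.MathieuOut.Abstract

/-!
A certificate that a permutation group has outer automorphism group of order two.
-/

set_option autoImplicit false

namespace CfsgLib.Spor.PermOut

open Equiv Cfsg

/-- generators, a straight-line program from them, two chains, relators and an outer element -/
structure Data where
  /-- degree -/
  n : ℕ
  /-- order -/
  ord : ℕ
  /-- exponent by which the third generator conjugates the second -/
  k : ℕ
  /-- first generator -/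
  a : ℕ
  /-- second generator -/
  b : ℕ
  /-- third generator -/
  c : ℕ
  /-- further elements -/
  rows : List (ℕ × ℕ × ℕ)
  /-- position of the inverse of the first generator -/
  ai : ℕ
  /-- first chain, by positions -/
  levA : List (ℕ × Option ℕ × List ℕ)
  /-- second chain, by positions -/
  levB : List (ℕ × Option ℕ × List ℕ)
  /-- relators -/
  rels : List (List ℕ)
  /-- the outer permutation -/
  outer : ℕ
  /-- its inverse -/
  outerInv : ℕ
  /-- whether it inverts the first generator -/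
  flip : Bool
  /-- factors of the image of the third generator, by positions -/
  imgC : List ℕ

namespace Data

variable (D : Data)

/-- all the codes -/
def tbl : Trie := fill (D.rows.map Prod.fst) 3 (fill [D.a, D.b, D.c] 0 .nil)

/-- the code at a position -/
def cd (i : ℕ) : ℕ := D.tbl.get D.a i

/-- a chain by codes -/
def levC (L : List (ℕ × Option ℕ × List ℕ)) : List Lev := L.map fun l => (l.1, l.2.1, l.2.2.map D.cd)

/-- image of the first generator -/
def imgA : ℕ := if D.flip then D.cd D.ai else D.a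

/-- image of the third generator -/
def imgCs : List ℕ := D.imgC.map D.cd

/-- two functions agree below the degree -/
def agree (f g : ℕ → ℕ) : Bool := allN D.n fun x => Nat.beq (f x) (g x)

/-- the relators at a pair -/
def relOK (x : ℕ) (q : List ℕ) : Bool :=
  D.rels.all fun w => D.agree (app (w.flatMap fun l => [[x], [D.b], q].getD l [])) id

/-- possible images of the first and third generators -/
def valid : List (List ℕ × List ℕ) :=
  [D.a, D.cd D.ai].flatMap fun x =>
    ((cands D.n D.b D.b D.k (D.levC D.levB)).filter (D.relOK x)).map fun q =>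
      ((List.range D.n).map (getQ x), (List.range D.n).map (app q))

/-- the group checks -/
def checkGroup : Bool :=
  slp D.n D.a D.rows 3 (fill [D.a, D.b, D.c] 0 .nil) &&
  levOK D.n D.a (D.levC D.levA) [] && levOK D.n D.b (D.levC D.levB) [] &&
  Nat.beq ((D.levC D.levA).map fun l => l.2.2.length).prod D.ord &&
  Nat.beq ((D.levC D.levB).map fun l => l.2.2.length).prod D.ord

/-- the checks on the generators -/
def checkGens : Bool :=
  D.agree (fun x => getQ (D.cd D.ai) (getQ D.a x)) id &&
  D.agree (itQ D.a 11) id && !D.agree (getQ D.a) id &&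
  D.agree (fun x => getQ D.b (getQ D.a x)) (fun x => itQ D.a 4 (getQ D.b x)) &&
  D.agree (fun x => getQ D.c (getQ D.b x)) (fun x => itQ D.b D.k (getQ D.c x)) &&
  D.relOK D.a [D.c]

/-- the centraliser of the first generator -/
def checkCent : Bool :=
  (cands D.n D.a D.a 1 (D.levC D.levA)).all fun q =>
    (List.range 11).any fun t => D.agree (app q) (itQ D.a t)

/-- the bound -/
def checkValid : Bool := Nat.ble D.valid.length 2

/-- the outer permutation -/
def checkOuter : Bool :=
  D.agree (fun x => getQ D.outer (getQ D.outerInv x)) id &&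
  D.agree (fun x => getQ D.outerInv (getQ D.outer x)) id &&
  (List.range D.n).all (fun x => Nat.blt (getQ D.outer x) D.n && Nat.blt (getQ D.outerInv x) D.n) &&
  D.agree (fun x => getQ D.outer (getQ D.a x)) (fun x => getQ D.imgA (getQ D.outer x)) &&
  D.agree (fun x => getQ D.outer (getQ D.b x)) (fun x => getQ D.b (getQ D.outer x)) &&
  D.agree (fun x => getQ D.outer (getQ D.c x)) (fun x => app D.imgCs (getQ D.outer x)) &&
  (cands D.n D.b D.b 1 (D.levC D.levB)).all fun q =>
    !(D.agree (fun x => app q (getQ D.a x)) (fun x => getQ D.imgA (app q x)) &&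
      D.agree (fun x => app q (getQ D.c x)) (fun x => app D.imgCs (app q x)))

theorem agree_iff {D : Data} {f g : ℕ → ℕ} : D.agree f g = true ↔ ∀ x < D.n, f x = g x := by
  simp [agree, allN_iff]

variable {D}

theorem natCard_out_eq_two {M : Subgroup (Perm (Fin D.n))} (hN : Nat.card M = D.ord)
    (ha : InM M D.a) (hb : InM M D.b) (hc : InM M D.c) (h11 : ¬ 11 ^ 2 ∣ D.ord)
    (h1 : D.checkGroup = true) (h2 : D.checkGens = true) (h3 : D.checkCent = true)
    (h4 : D.checkValid = true) (h5 : D.checkOuter = true) : Nat.card (Out M) = 2 := by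
  classical
  haveI : Fact (Nat.Prime 11) := ⟨by norm_num⟩
  simp only [checkGroup, Bool.and_eq_true, Nat.beq_eq] at h1
  obtain ⟨⟨⟨⟨hs, hlA⟩, hlB⟩, hpA⟩, hpB⟩ := h1
  simp only [checkGens, Bool.and_eq_true, Bool.not_eq_true', agree_iff] at h2
  obtain ⟨⟨⟨⟨⟨hai, ha11⟩, hane⟩, hba⟩, hcb⟩, hrel⟩ := h2
  obtain ⟨A, hA, hAa⟩ := ha
  obtain ⟨B, hB, hBb⟩ := hb
  obtain ⟨C, hC, hCc⟩ := hc
  set K := Subgroup.closure ({A, B, C} : Set (Perm (Fin D.n))) with hKdef
  have hKM : K ≤ M := (Subgroup.closure_le _).2 (by rintro x (rfl | rfl | rfl) <;> assumption)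
  have hAK : InM K D.a := ⟨A, Subgroup.subset_closure (by simp), hAa⟩
  obtain ⟨-, htblK⟩ := inM_slp hAK _ _ _ hs (all_fill [D.a, D.b, D.c] 0 (t := .nil) (fun x hx => by
    simp only [List.mem_cons, List.not_mem_nil, or_false] at hx
    rcases hx with rfl | rfl | rfl
    · exact hAK
    · exact ⟨B, Subgroup.subset_closure (by simp), hBb⟩
    · exact ⟨C, Subgroup.subset_closure (by simp), hCc⟩) trivial)
  have hcdK : ∀ i, InM K (D.cd i) := fun i => htblK.get hAK i
  have hlevK : ∀ (L : List (ℕ × Option ℕ × List ℕ)), ∀ l ∈ D.levC L, ∀ t ∈ l.2.2, InM K t := by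
    intro L l hl t ht
    obtain ⟨l', -, rfl⟩ := List.mem_map.1 hl
    obtain ⟨i, -, rfl⟩ := List.mem_map.1 ht
    exact hcdK i
  have hgen : K = M := by
    refine Subgroup.eq_of_le_of_card_ge hKM ?_
    rw [hN, ← hpA]
    exact card_eq_of_elts hlA (hlevK _)
  rw [hgen] at hlevK hcdK
  let A' : M := ⟨A, hA⟩
  let B' : M := ⟨B, hB⟩
  let C' : M := ⟨C, hC⟩
  have hgen' : Subgroup.closure ({A', B', C'} : Set M) = ⊤ := by
    refine Subgroup.map_injective (f := M.subtype) M.subtype_injective ?_
    rw [MonoidHom.map_closure, Set.image_insert_eq, Set.image_insert_eq, Set.image_singleton,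
      ← MonoidHom.range_eq_map, Subgroup.range_subtype]
    exact hgen
  have hval : ∀ (σ : Perm (Fin D.n)) (f : ℕ → ℕ) (τ : Perm (Fin D.n)) (g : ℕ → ℕ),
      (∀ i : Fin D.n, ((σ i : Fin D.n) : ℕ) = f i) → (∀ i : Fin D.n, ((τ i : Fin D.n) : ℕ) = g i) →
      (σ = τ ↔ ∀ x < D.n, f x = g x) := fun σ f τ g hσ hτ => by
    refine ⟨fun e x hx => by rw [← hσ ⟨x, hx⟩, e, hτ ⟨x, hx⟩], fun e => Equiv.ext fun i => Fin.ext ?_⟩
    rw [hσ, hτ, e i i.2]
  have hA11 : A ^ 11 = 1 :=
    (hval _ (itQ D.a 11) _ id (hAa.itQ 11) (fun i => rfl)).2 ha11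
  have hA1 : A ≠ 1 := fun e => by
    have := (hval A (getQ D.a) 1 id hAa (fun i => rfl)).1 e
    rw [agree_iff.2 this] at hane
    exact Bool.noConfusion hane
  have hBA : B * A = A ^ 4 * B :=
    (hval _ (fun x => getQ D.b (getQ D.a x)) _ (fun x => itQ D.a 4 (getQ D.b x))
      (fun i => by rw [Perm.mul_apply, hBb, hAa]) (fun i => by rw [Perm.mul_apply, hAa.itQ, hBb])).2 hba
  have hCB : C * B = B ^ D.k * C :=
    (hval _ (fun x => getQ D.c (getQ D.b x)) _ (fun x => itQ D.b D.k (getQ D.c x))
      (fun i => by rw [Perm.mul_apply, hCc, hBb]) (fun i => by rw [Perm.mul_apply, hBb.itQ, hCc])).2 hcb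
  have hordA : orderOf A' = 11 :=
    orderOf_eq_prime (Subtype.ext hA11) fun h => hA1 (congrArg Subtype.val h)
  obtain ⟨AI, hAI, hAIi⟩ := hcdK D.ai
  have hAinv : AI = A⁻¹ := by
    refine eq_inv_of_mul_eq_one_left ((hval _ (fun x => getQ (D.cd D.ai) (getQ D.a x)) 1 id
      (fun i => by rw [Perm.mul_apply, hAIi, hAa]) (fun i => rfl)).2 hai)
  let key : M → List ℕ := fun g => (List.range D.n).map fun x =>
    if h : x < D.n then ((g.1 ⟨x, h⟩ : Fin D.n) : ℕ) else 0
  have hkey : ∀ (g : M) (f : ℕ → ℕ), (∀ i : Fin D.n, ((g.1 i : Fin D.n) : ℕ) = f i) →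
      key g = (List.range D.n).map f := fun g f hf => List.map_congr_left fun x hx => by
    rw [List.mem_range] at hx
    rw [dif_pos hx, hf ⟨x, hx⟩]
  have hkinj : Function.Injective key := fun g g' e => by
    refine Subtype.ext (Equiv.ext fun i => Fin.ext ?_)
    have h := congrArg (fun L : List ℕ => L.getD i 0) e
    simpa [key] using h
  have hword : ∀ (x : ℕ) (q : List ℕ) (X Y : Perm (Fin D.n)), Rep X x →
      (∀ i : Fin D.n, ((Y i : Fin D.n) : ℕ) = app q i) → ∀ (w : List ℕ) (i : Fin D.n),
      ((((w.map fun l => [X, B, Y].getD l 1).prod) i : Fin D.n) : ℕ) =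
        app (w.flatMap fun l => [[x], [D.b], q].getD l []) i := by
    intro x q X Y hX hY w
    induction w with
    | nil => intro i; rfl
    | cons l w ih =>
      intro i
      rw [List.map_cons, List.prod_cons, Perm.mul_apply, List.flatMap_cons]
      simp only [app, List.foldr_append] at ih ⊢
      rw [← ih]
      rcases l with _ | _ | _ | l
      · exact hX _
      · exact hBb _
      · exact hY _
      · rfl
  refine le_antisymm ?_ ?_
  · refine (CfsgLib.MathieuOut.natCard_out_le (G := M) (p := 11) (a := A') (b := B') (c := C') (s := 4)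
      (k := D.k) (hN ▸ h11) hordA (Subtype.ext (by
        show B * A * B⁻¹ = A ^ 4
        rw [hBA, mul_inv_cancel_right]))
      (Subtype.ext hCB) hgen' (by intro h; revert h; decide +revert) (by decide) ?_ key hkinj D.valid ?_).trans
      (by simpa [checkValid] using h4)
    · intro g hg
      obtain ⟨q, hq, hqv⟩ := exists_cand (u := D.a) (v := D.a) (k := 1) hAa hAa
        (y := g.1) (by rw [pow_one]; exact congrArg Subtype.val hg) g.2 hlA (hlevK _) (hpA.trans hN.symm)
      obtain ⟨t, -, ht⟩ := List.any_eq_true.1 (List.all_eq_true.1 h3 q hq)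
      exact ⟨t, Subtype.ext ((hval _ _ _ _ hqv (hAa.itQ t)).2 (agree_iff.1 ht))⟩
    · intro φ hφb hφa hφc
      obtain ⟨q, hq, hqv⟩ := exists_cand (u := D.b) (v := D.b) (k := D.k) hBb hBb
        (y := (φ C').1) (congrArg Subtype.val hφc) (φ C').2 hlB (hlevK _) (hpB.trans hN.symm)
      obtain ⟨x, hx, hxr⟩ : ∃ x ∈ [D.a, D.cd D.ai], Rep (φ A').1 x := by
        rcases hφa with h | h <;> rw [h]
        · exact ⟨D.a, by simp, hAa⟩
        · exact ⟨D.cd D.ai, by simp, by rw [Subgroup.coe_inv]; exact hAinv ▸ hAIi⟩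
      refine List.mem_flatMap.2 ⟨x, hx, List.mem_map.2 ⟨q, List.mem_filter.2 ⟨hq, ?_⟩,
        by rw [hkey _ _ hxr, hkey _ _ hqv]⟩⟩
      simp only [relOK, List.all_eq_true, agree_iff] at hrel ⊢
      intro w hw
      have e0 : (w.map fun l => [A, B, C].getD l 1).prod = 1 :=
        (hval _ _ 1 id (hword D.a [D.c] A C hAa (fun i => hCc i) w) (fun i => rfl)).2 (hrel w hw)
      refine (hval _ _ 1 id (hword x q (φ A').1 (φ C').1 hxr hqv w) (fun i => rfl)).1 ?_
      have e1 : (w.map fun l => [A', B', C'].getD l 1).prod = 1 := by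
        refine Subtype.ext ?_
        rw [SubmonoidClass.coe_list_prod, List.map_map, OneMemClass.coe_one, ← e0]
        refine congrArg List.prod (List.map_congr_left fun l _ => ?_)
        rcases l with _ | _ | _ | l <;> rfl
      have e2 := congrArg Subtype.val (congrArg φ e1)
      rw [map_list_prod, List.map_map, SubmonoidClass.coe_list_prod, List.map_map, map_one,
        OneMemClass.coe_one] at e2
      refine Eq.trans ?_ e2
      refine congrArg List.prod (List.map_congr_left fun l _ => ?_)
      rcases l with _ | _ | _ | l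
      · rfl
      · show B = (φ B').1
        rw [hφb]
      · rfl
      · show (1 : Perm (Fin D.n)) = (φ 1).1
        rw [map_one]; rfl
  · simp only [checkOuter, Bool.and_eq_true, List.all_eq_true, Bool.not_eq_true', List.mem_range,
      Nat.blt_eq, agree_iff] at h5
    obtain ⟨⟨⟨⟨⟨⟨hHI, hIH⟩, hlt⟩, hHA⟩, hHB⟩, hHC⟩, hno⟩ := h5
    let H : Perm (Fin D.n) :=
      { toFun := fun i => ⟨getQ D.outer i, (hlt i i.2).1⟩
        invFun := fun i => ⟨getQ D.outerInv i, (hlt i i.2).2⟩
        left_inv := fun i => Fin.ext (hIH i i.2)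
        right_inv := fun i => Fin.ext (hHI i i.2) }
    have hHr : Rep H D.outer := fun i => rfl
    have hxA : InM M D.imgA := by
      unfold imgA
      cases D.flip with
      | false => exact ⟨A, hA, hAa⟩
      | true => exact hcdK D.ai
    obtain ⟨X, hX, hXx⟩ := hxA
    have hys : ∀ t ∈ D.imgCs, InM M t := fun t ht => by
      obtain ⟨i, -, rfl⟩ := List.mem_map.1 ht
      exact hcdK i
    let Y : Perm (Fin D.n) := (D.imgCs.map (permOf D.n)).prod
    have hYr : ∀ i : Fin D.n, ((Y i : Fin D.n) : ℕ) = app D.imgCs i :=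
      app_prod _ fun t ht => (hys t ht).rep
    have hY : Y ∈ M := Subgroup.list_prod_mem _ fun t ht => by
      obtain ⟨u, hu, rfl⟩ := List.mem_map.1 ht
      exact (hys u hu).mem
    have eA : H * A * H⁻¹ = X := mul_inv_eq_iff_eq_mul.2
      ((hval _ (fun x => getQ D.outer (getQ D.a x)) _ (fun x => getQ D.imgA (getQ D.outer x))
        (fun i => by rw [Perm.mul_apply, hHr, hAa]) (fun i => by rw [Perm.mul_apply, hXx, hHr])).2 hHA)
    have eB : H * B * H⁻¹ = B := mul_inv_eq_iff_eq_mul.2
      ((hval _ (fun x => getQ D.outer (getQ D.b x)) _ (fun x => getQ D.b (getQ D.outer x))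
        (fun i => by rw [Perm.mul_apply, hHr, hBb]) (fun i => by rw [Perm.mul_apply, hBb, hHr])).2 hHB)
    have eC : H * C * H⁻¹ = Y := mul_inv_eq_iff_eq_mul.2
      ((hval _ (fun x => getQ D.outer (getQ D.c x)) _ (fun x => app D.imgCs (getQ D.outer x))
        (fun i => by rw [Perm.mul_apply, hHr, hCc]) (fun i => by rw [Perm.mul_apply, hYr, hHr])).2 hHC)
    have hle : M ≤ M.comap (MulAut.conj H).toMonoidHom := by
      conv_lhs => rw [← hgen]
      rw [hKdef, Subgroup.closure_le]
      intro x hx
      simp only [Set.mem_insert_iff, Set.mem_singleton_iff] at hx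
      rcases hx with hx | hx | hx <;> rw [hx]
      · show H * A * H⁻¹ ∈ M; rw [eA]; exact hX
      · show H * B * H⁻¹ ∈ M; rw [eB]; exact hB
      · show H * C * H⁻¹ ∈ M; rw [eC]; exact hY
    let f : M →* M :=
      { toFun := fun g => ⟨H * g.1 * H⁻¹, hle g.2⟩
        map_one' := Subtype.ext (by simp)
        map_mul' := fun g g' => Subtype.ext (by simp [mul_assoc]) }
    have hf : Function.Bijective f := Finite.injective_iff_bijective.1 fun g g' e => by
      have e' : H * g.1 * H⁻¹ = H * g'.1 * H⁻¹ := congrArg Subtype.val e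
      exact Subtype.ext (mul_left_cancel (mul_right_cancel e'))
    show 1 < Nat.card (Out M)
    rw [Finite.one_lt_card_iff_nontrivial]
    refine ⟨⟨QuotientGroup.mk (MulEquiv.ofBijective f hf), 1, fun he => ?_⟩⟩
    obtain ⟨g, hg⟩ := (QuotientGroup.eq_one_iff _).1 he
    have hgx : ∀ x ∈ M, g.1 * x = (H * x * H⁻¹) * g.1 := fun x hx => by
      have e0 : g.1 * x * g.1⁻¹ = H * x * H⁻¹ :=
        congrArg Subtype.val (DFunLike.congr_fun hg (⟨x, hx⟩ : M))
      exact mul_inv_eq_iff_eq_mul.1 e0
    obtain ⟨q, hq, hqv⟩ := exists_cand (u := D.b) (v := D.b) (k := 1) hBb hBb (y := g.1)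
      (by rw [pow_one]; have := hgx B hB; rwa [eB] at this) g.2 hlB (hlevK _) (hpB.trans hN.symm)
    have h6 := hno q hq
    rw [Bool.and_eq_false_iff] at h6
    have hgA := hgx A hA; rw [eA] at hgA
    have hgC := hgx C hC; rw [eC] at hgC
    have k1 := (hval _ (fun x => app q (getQ D.a x)) _ (fun x => getQ D.imgA (app q x))
      (fun i => by rw [Perm.mul_apply, hqv, hAa]) (fun i => by rw [Perm.mul_apply, hXx, hqv])).1 hgA
    have k2 := (hval _ (fun x => app q (getQ D.c x)) _ (fun x => app D.imgCs (app q x))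
      (fun i => by rw [Perm.mul_apply, hqv, hCc]) (fun i => by rw [Perm.mul_apply, hYr, hqv])).1 hgC
    rcases h6 with h6 | h6
    · rw [agree_iff.2 k1] at h6; exact Bool.noConfusion h6
    · rw [agree_iff.2 k2] at h6; exact Bool.noConfusion h6

end Data

theorem natCard_out_congr {G H : Type*} [Group G] [Group H] (e : G ≃* H) :
    Nat.card (Out G) = Nat.card (Out H) := by
  let Φ : MulAut G ≃* MulAut H := MulAut.congr e
  have hmap : (MulAut.conj : G →* MulAut G).range.map Φ.toMonoidHom = (MulAut.conj : H →* MulAut H).range := by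
    ext ψ
    constructor
    · rintro ⟨_, ⟨g, rfl⟩, rfl⟩
      exact ⟨e g, MulEquiv.ext fun h => by simp [Φ]⟩
    · rintro ⟨h, rfl⟩
      exact ⟨MulAut.conj (e.symm h), ⟨e.symm h, rfl⟩, MulEquiv.ext fun x => by simp [Φ]⟩
  exact Nat.card_congr (QuotientGroup.congr _ _ Φ hmap).toEquiv

end CfsgLib.Spor.PermOut
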