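import Cfsg.Agent.Lib.Spor.PermOut.Basic
import Cfsg.Agent.Lib.Spor.HSConfig

/-!
The permutation model of the stabiliser of a pair of lattice vectors on a configuration.
-/

set_option autoImplicit false
set_option maxRecDepth 100000

namespace CfsgLib.Spor.PermOut

open Cfsg CfsgLib.Spor CfsgLib.Spor.Config
open CfsgLib.Spor.HSConfig (dotL dotInt_eq_dotL encL encV_eq_encL encV_inj)

/-- the listed vectors lie in the configuration -/
def ptsOK (u w : List ℤ) (a b : ℤ) (L : List (List ℤ)) : Bool :=
  L.all fun l => decide (l.length = 24) && inLeechB l && decide (dotL l l = 32) &&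
    decide (dotL u l = a) && decide (dotL w l = b)

/-- a program moves the listed vectors as the code says -/
def progOK (L : List (List ℤ)) (n : ℕ) (P : List Stp) (c : ℕ) : Bool :=
  (List.range n).all fun i => Nat.blt (getQ c i) n &&
    Nat.beq (runN P (encL (L.getD i []))) (encL (L.getD (getQ c i) []))

theorem exists_model {K : Subgroup Co0} [IsSimpleGroup K] {u w : leechLattice} {a b : ℤ} {n : ℕ}
    {L : List (List ℤ)} (hlen : L.length = n)
    (hL : ptsOK (lOf (u : GolayPt → ℤ)) (lOf (w : GolayPt → ℤ)) a b L = true) (hnd : L.Nodup)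
    (hcard : (cfgSet [(u, a), (w, b)]).ncard = n)
    (hK : ∀ g ∈ K, ∀ q ∈ [(u, a), (w, b)], g • q.1 = q.1) {gs : List (List Stp)} (hgs : Gens K gs)
    (codes : List ℕ) (hcl : codes.length = gs.length)
    (hok : ((List.range gs.length).all fun j => progOK L n (gs.getD j []) (codes.getD j 0)) = true)
    (hmove : ((List.range gs.length).any fun j =>
      (List.range n).any fun i => !Nat.beq (getQ (codes.getD j 0) i) i) = true) :
    ∃ M : Subgroup (Equiv.Perm (Fin n)), Nonempty (K ≃* M) ∧ ∀ c ∈ codes, InM M c := by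
  classical
  have hspec : ∀ i : Fin n, ∃ v : leechLattice, lOf (v : GolayPt → ℤ) = L.getD i [] ∧
      v ∈ cfgSet [(u, a), (w, b)] := by
    intro i
    have hi : (i : ℕ) < L.length := by rw [hlen]; exact i.2
    rw [List.getD_eq_getElem _ _ hi]
    have h := List.all_eq_true.1 hL _ (List.getElem_mem hi)
    simp only [Bool.and_eq_true, decide_eq_true_eq] at h
    obtain ⟨⟨⟨⟨h0, h1⟩, h2⟩, h3⟩, h4⟩ := h
    have e := lOf_vOf h0
    refine ⟨⟨vOf L[(i : ℕ)], mem_leech_of_inLeechB (by rw [e]; exact h1)⟩, e,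
      mem_cfgSet_two.2 ⟨?_, ?_, ?_⟩⟩
    · rw [← dot_self, dotInt_eq_dotL, e, h2]
    · rw [dotInt_eq_dotL, e, h3]
    · rw [dotInt_eq_dotL, e, h4]
  choose obj hobjl hobjm using hspec
  have hobj : Function.Injective obj := by
    intro i j h
    have e : L.getD i [] = L.getD j [] := by rw [← hobjl, ← hobjl, h]
    rw [List.getD_eq_getElem _ _ (by rw [hlen]; exact i.2),
      List.getD_eq_getElem _ _ (by rw [hlen]; exact j.2), hnd.getElem_inj_iff] at e
    exact Fin.ext e
  have hrange : Set.range obj = cfgSet [(u, a), (w, b)] :=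
    Set.eq_of_subset_of_ncard_le (by rintro _ ⟨i, rfl⟩; exact hobjm i)
      (by rw [hcard, Set.ncard_range_of_injective hobj, Nat.card_fin]) (cfgSet_finite _)
  have hclosed : ∀ (g : K) (i : Fin n), ∃ j, obj j = (g : Co0) • obj i := by
    intro g i
    have h := smul_mem_cfgSet (g := (g : Co0)) (hobjm i)
    rw [List.map_congr_left (g := id) fun q hq => by rw [hK g g.2 q hq]; rfl, List.map_id,
      ← hrange] at h
    exact h
  choose act hact using hclosed
  let ρ : K →* Equiv.Perm (Fin n) :=
    { toFun := fun g =>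
        { toFun := act g
          invFun := act g⁻¹
          left_inv := fun i => hobj (by rw [hact, hact]; exact inv_smul_smul (g : Co0) (obj i))
          right_inv := fun i => hobj (by rw [hact, hact]; exact smul_inv_smul (g : Co0) (obj i)) }
      map_one' := Equiv.ext fun i => hobj ((hact 1 i).trans (one_smul Co0 (obj i)))
      map_mul' := fun g h => Equiv.ext fun i => hobj (by
        show obj (act (g * h) i) = obj (act g (act h i))
        rw [hact, hact, hact]; exact mul_smul (g : Co0) (h : Co0) (obj i)) }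
  have hρ : ∀ (g : K) (i : Fin n), obj (ρ g i) = (g : Co0) • obj i := hact
  have hrep : ∀ j < gs.length, ∃ g : K, Rep (ρ g) (codes.getD j 0) := by
    intro j hj
    have h := List.all_eq_true.1 hok j (List.mem_range.2 hj)
    simp only [progOK, List.all_eq_true, List.mem_range, Bool.and_eq_true, Nat.blt_eq, Nat.beq_eq] at h
    obtain ⟨hokP, g, hg, hact'⟩ := hgs.spec (gs.getD j []) (by
      rw [List.getD_eq_getElem _ _ hj]; exact List.getElem_mem hj)
    refine ⟨⟨g, hg⟩, fun i => ?_⟩
    obtain ⟨hlt, he⟩ := h i i.2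
    suffices ρ ⟨g, hg⟩ i = ⟨getQ (codes.getD j 0) i, hlt⟩ by rw [this]
    refine hobj ?_
    have hn : sqNorm (obj i : GolayPt → ℤ) = 32 := (hobjm i).1
    rw [hρ]
    refine Subtype.ext (encV_inj (small_of_sqNorm ((coe_smul_sqNorm g _).trans_le (by rw [hn]; norm_num)))
      (small_of_sqNorm ((hobjm _).1.trans_le (by norm_num))) ?_)
    rw [← runN_spec hokP hact' (by rw [hn]; norm_num), encV_eq_encL, encV_eq_encL, hobjl, hobjl]
    exact he
  have hinj : Function.Injective ρ := by
    rcases (ρ.normal_ker).eq_bot_or_eq_top with h | h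
    · exact (MonoidHom.ker_eq_bot_iff ρ).1 h
    · exfalso
      simp only [List.any_eq_true, List.mem_range, Bool.not_eq_true'] at hmove
      obtain ⟨j, hj, i, hi, hne⟩ := hmove
      obtain ⟨g, hg⟩ := hrep j hj
      have h1 : ρ g = 1 := MonoidHom.mem_ker.1 (h ▸ Subgroup.mem_top g)
      have h2 := hg ⟨i, hi⟩
      rw [h1] at h2
      rw [← h2] at hne
      simp at hne
  refine ⟨ρ.range, ⟨MonoidHom.ofInjective hinj⟩, fun c hc => ?_⟩
  obtain ⟨j, hj, rfl⟩ := List.mem_iff_getElem.1 hc
  obtain ⟨g, hg⟩ := hrep j (hcl ▸ hj)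
  rw [List.getD_eq_getElem _ _ hj] at hg
  exact ⟨ρ g, ⟨g, rfl⟩, hg⟩

end CfsgLib.Spor.PermOut
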