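import Cfsg.Agent.Lib.Spor.PermOut.Cert
import Cfsg.Agent.Lib.Spor.PermOut.Model

/-!
From a model and a certificate to the order of the outer automorphism group.
-/

set_option autoImplicit false

namespace CfsgLib.Spor.PermOut

open Cfsg

/-- the three elements of the certificate are among the computed ones -/
def abcOK (D : Data) (gens : List ℕ) (words : List (ℕ × ℕ × ℕ)) (iabc : List ℕ) : Bool :=
  slp D.n (gens.headD 0) words gens.length (fill gens 0 .nil) &&
    decide (iabc.map (fun i => (fill (words.map Prod.fst) gens.length (fill gens 0 .nil)).get (gens.headD 0) i) =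
      [D.a, D.b, D.c])

theorem natCard_out_of_model {K : Type*} [Group K] [Finite K] (D : Data)
    {M : Subgroup (Equiv.Perm (Fin D.n))} (e : K ≃* M) (hK : Nat.card K = D.ord)
    (h11 : ¬ 11 ^ 2 ∣ D.ord) {gens : List ℕ} (hne : gens ≠ []) (hgens : ∀ c ∈ gens, InM M c)
    {words : List (ℕ × ℕ × ℕ)} {iabc : List ℕ} (habc : abcOK D gens words iabc = true)
    (h1 : D.checkGroup = true) (h2 : D.checkGens = true) (h3 : D.checkCent = true)
    (h4 : D.checkValid = true) (h5 : D.checkOuter = true) : Nat.card (Out K) = 2 := by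
  simp only [abcOK, Bool.and_eq_true, decide_eq_true_eq] at habc
  obtain ⟨hs, he⟩ := habc
  have hd : InM M (gens.headD 0) := hgens _ (by
    obtain ⟨x, l, rfl⟩ := List.exists_cons_of_ne_nil hne
    exact List.mem_cons_self)
  obtain ⟨-, hall⟩ := inM_slp hd _ _ _ hs (all_fill gens 0 (t := .nil) hgens trivial)
  have h : ∀ x ∈ [D.a, D.b, D.c], InM M x := by
    rw [← he]
    intro x hx
    obtain ⟨i, -, rfl⟩ := List.mem_map.1 hx
    exact hall.get hd i
  rw [natCard_out_congr e]
  exact Data.natCard_out_eq_two ((Nat.card_congr e.toEquiv).symm.trans hK) (h _ (by simp)) (h _ (by simp))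
    (h _ (by simp)) h11 h1 h2 h3 h4 h5

end CfsgLib.Spor.PermOut
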